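import Mathlib

/-!
# (R1) for helper42 (S4700): `n_p(G) = n_p(G/N) · k` with `k ≡ 1 (mod p)`
-/

set_option autoImplicit false

namespace Cfsg.Agent.Helper65.B43c

universe u

section R

variable {G : Type u} [Group G] [Finite G] {p : ℕ} [Fact p.Prime]

/-- (R1) `n_p(G) = n_p(G/N) · k` with `k ≡ 1 (mod p)`. -/
theorem card_sylow_quotient (N : Subgroup G) [N.Normal] :
    ∃ k : ℕ, k % p = 1 ∧ Nat.card (Sylow p G) = Nat.card (Sylow p (G ⧸ N)) * k := by
  obtain ⟨P⟩ : Nonempty (Sylow p G) := Sylow.nonempty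
  have hπ := QuotientGroup.mk'_surjective N
  obtain ⟨Pb, hPb⟩ : ∃ Pb : Sylow p (G ⧸ N), Pb = P.mapSurjective hπ := ⟨_, rfl⟩
  obtain ⟨L, hL⟩ : ∃ L : Subgroup G, L = (Subgroup.normalizer
      ((Pb : Subgroup (G ⧸ N)) : Set (G ⧸ N))).comap (QuotientGroup.mk' N) := ⟨_, rfl⟩
  have hNL : Subgroup.normalizer ((P : Subgroup G) : Set G) ≤ L := by
    rw [hL, ← Subgroup.map_le_iff_le_comap, hPb]
    exact Subgroup.le_normalizer_map (QuotientGroup.mk' N)
  have hPL : (P : Subgroup G) ≤ L := Subgroup.le_normalizer.trans hNL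
  have h1 : Nat.card (Sylow p G) = (Subgroup.normalizer ((P : Subgroup G) : Set G)).index :=
    P.card_eq_index_normalizer
  have h2 : Nat.card (Sylow p (G ⧸ N)) = L.index := by
    rw [Pb.card_eq_index_normalizer, hL, Subgroup.index_comap_of_surjective _ hπ]
    rfl
  have h3 := Subgroup.relIndex_mul_index hNL
  have h4 : (Subgroup.normalizer ((P : Subgroup G) : Set G)).relIndex L =
      Nat.card (Sylow p L) := by
    rw [(P.subtype hPL).card_eq_index_normalizer]
    show _ = (Subgroup.normalizer (((P.subtype hPL : Sylow p L) : Subgroup L) : Set L)).index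
    rw [Sylow.coe_subtype, ← Subgroup.subgroupOf_normalizer_eq hPL]
    rfl
  refine ⟨(Subgroup.normalizer ((P : Subgroup G) : Set G)).relIndex L, ?_, ?_⟩
  · rw [h4]
    have h5 := card_sylow_modEq_one p L
    rw [Nat.ModEq, Nat.mod_eq_of_lt (Fact.out : p.Prime).one_lt] at h5
    exact h5
  · rw [h1, h2, ← h3, mul_comm]

end R

end Cfsg.Agent.Helper65.B43c
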